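import Groth.Agent.Old.H35.ResolutionK0
import Mathlib.Algebra.Homology.ShortComplex.HomologicalComplex
import Mathlib.Algebra.Homology.HomologicalComplex

/-!
# Splicing infinitely many short exact sequences to a resolution
-/

set_option autoImplicit false
universe v u
open CategoryTheory CategoryTheory.Limits ZeroObject

namespace Groth.Agent.Old.H35.ResolutionChain

open Groth.Agent.Old.H35.ResolutionK0

variable {C : Type u} [Category.{v} C] [Abelian C]

section Splice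

section Gen

variable (M : ChainComplex C ℕ) (K : ℕ → C) (f : ∀ n, K (n + 1) ⟶ M.X n) (g : ∀ n, M.X n ⟶ K n)
  (w : ∀ n, f n ≫ g n = 0)
  (hS : ∀ n, (ShortComplex.mk (f n) (g n) (w n)).ShortExact)
  (hd : ∀ n, M.d (n + 1) n = g (n + 1) ≫ f n)

include hS hd in
lemma exactAt (n : ℕ) : M.ExactAt (n + 1) := by
  rw [HomologicalComplex.exactAt_iff' _ (n + 2) (n + 1) n (by simp) (by simp)]
  haveI : Mono (f n) := (hS n).mono_f
  haveI : Epi (g (n + 2)) := (hS (n + 2)).epi_g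
  haveI : Mono (f (n + 1)) := (hS (n + 1)).mono_f
  haveI : Mono (ShortComplex.mk (f (n + 1)) (g (n + 1)) (w (n + 1))).f := (hS (n + 1)).mono_f
  rw [ShortComplex.exact_iff_exact_up_to_refinements]
  intro T x hx
  change T ⟶ M.X (n + 1) at x
  change x ≫ M.d (n + 1) n = 0 at hx
  have hx' : x ≫ g (n + 1) = 0 := by
    rw [hd, ← Category.assoc] at hx
    exact zero_of_comp_mono (f n) hx
  obtain ⟨y, hy⟩ : ∃ y : T ⟶ K (n + 2), y ≫ f (n + 1) = x := (hS (n + 1)).exact.lift' x hx'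
  obtain ⟨T', π, hπ, z, hz⟩ := surjective_up_to_refinements_of_epi (g (n + 2)) y
  refine ⟨T', π, hπ, z, ?_⟩
  change π ≫ x = z ≫ M.d (n + 2) (n + 1)
  rw [hd, ← hy, reassoc_of% hz]

include hS hd in
/-- The cycles of the spliced complex. -/
lemma cycles_iso (n : ℕ) : Nonempty (M.cycles (n + 1) ≅ K (n + 2)) := by
  haveI : Mono (f n) := (hS n).mono_f
  haveI : Mono (f (n + 1)) := (hS (n + 1)).mono_f
  haveI : Mono (ShortComplex.mk (f (n + 1)) (g (n + 1)) (w (n + 1))).f := (hS (n + 1)).mono_f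
  have h1 := M.cyclesIsKernel (n + 1) n (by simp)
  have e0 : f (n + 1) ≫ M.d (n + 1) n = 0 := by
    rw [hd, ← Category.assoc, w, zero_comp]
  have h2 : IsLimit (KernelFork.ofι (f := M.d (n + 1) n) (f (n + 1)) e0) := by
    refine KernelFork.IsLimit.ofι' _ _ (fun {T} x hx => ?_)
    have hx' : x ≫ g (n + 1) = 0 := by
      rw [hd, ← Category.assoc] at hx
      exact zero_of_comp_mono (f n) hx
    exact ⟨(hS (n + 1)).exact.lift x hx', (hS (n + 1)).exact.lift_f x hx'⟩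
  exact ⟨IsLimit.conePointUniqueUpToIso h1 h2⟩

include hS hd in
/-- The homology in degree zero of the spliced complex. -/
lemma homology_zero_iso : Nonempty (M.homology 0 ≅ K 0) := by
  haveI : Epi (g 1) := (hS 1).epi_g
  haveI : Epi (g 0) := (hS 0).epi_g
  haveI : Epi (ShortComplex.mk (f 0) (g 0) (w 0)).g := (hS 0).epi_g
  have h1 := M.opcyclesIsCokernel 1 0 (by simp)
  have e0 : M.d 1 0 ≫ g 0 = 0 := by
    rw [hd 0, Category.assoc, w, comp_zero]
  have h2 : IsColimit (CokernelCofork.ofπ (f := M.d 1 0) (g 0) e0) := by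
    refine CokernelCofork.IsColimit.ofπ' _ _ (fun {T} x hx => ?_)
    have hx' : f 0 ≫ x = 0 := by
      rw [hd 0, Category.assoc] at hx
      exact zero_of_epi_comp (g 1) hx
    exact ⟨(hS 0).exact.desc x hx', (hS 0).exact.g_desc x hx'⟩
  exact ⟨M.isoHomologyι₀ ≪≫ IsColimit.coconePointUniqueUpToIso h1 h2⟩

end Gen

variable (K L : ℕ → C) (f : ∀ n, K (n + 1) ⟶ L n) (g : ∀ n, L n ⟶ K n) (w : ∀ n, f n ≫ g n = 0)
  (hS : ∀ n, (ShortComplex.mk (f n) (g n) (w n)).ShortExact)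

/-- The spliced complex. -/
noncomputable def cx : ChainComplex C ℕ :=
  ChainComplex.of L (fun n => g (n + 1) ≫ f n) (fun n => by
    simp only [Category.assoc]
    rw [reassoc_of% (w (n + 1))]; simp)

lemma cx_d (n : ℕ) : (cx K L f g w).d (n + 1) n = g (n + 1) ≫ f n := by
  change ChainComplex.of.d L (fun n => g (n + 1) ≫ f n) (n + 1) n = _
  exact ChainComplex.of_d _ _ _

include hS in
lemma cx_exactAt (n : ℕ) : (cx K L f g w).ExactAt (n + 1) :=
  exactAt (cx K L f g w) K f g w hS (cx_d K L f g w) n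

include hS in
/-- The cycles of the spliced complex. -/
lemma cx_cycles (n : ℕ) : Nonempty ((cx K L f g w).cycles (n + 1) ≅ K (n + 2)) :=
  cycles_iso (cx K L f g w) K f g w hS (cx_d K L f g w) n

include hS in
/-- The homology in degree zero of the spliced complex. -/
lemma cx_homology_zero : Nonempty ((cx K L f g w).homology 0 ≅ K 0) :=
  homology_zero_iso (cx K L f g w) K f g w hS (cx_d K L f g w)

end Splice

section Chains

variable (P₀ P₁ : ObjectProperty C)

/-- `K` is a first syzygy of `A`. -/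
def Syz (A K : C) : Prop :=
  ∃ (L : C) (f : K ⟶ L) (g : L ⟶ A) (w : f ≫ g = 0), (ShortComplex.mk f g w).ShortExact ∧ P₀ L

/-- `K` is an `n`-th syzygy of `A`. -/
def SyzN : ℕ → C → C → Prop
  | 0, A, K => A = K
  | n + 1, A, K => ∃ A', Syz P₀ A A' ∧ SyzN n A' K

lemma D_of_syzN : ∀ (n : ℕ) (A : C), (∀ K, SyzN P₀ n A K → P₀ K) → D P₀ n A
  | 0, A, h => h A rfl
  | n + 1, A, h => fun K L f g w hS hL =>
      D_of_syzN n K (fun K' hK' => h K' ⟨K, ⟨L, f, g, w, hS, hL⟩, hK'⟩)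

variable {P₀ P₁}

/-- infinite chain of syzygies -/
lemma exists_chain_zero (H : Hyp P₀ P₁) (A : C) (hA : P₁ A) :
    ∃ K : ℕ → C, K 0 = A ∧ ∀ n, Syz P₀ (K n) (K (n + 1)) := by
  have step : ∀ A : Subtype P₁, ∃ K : Subtype P₁, Syz P₀ A.1 K.1 := by
    rintro ⟨A, hA⟩
    obtain ⟨K, L, f, g, w, hS, hL, hK⟩ := H.syz hA
    exact ⟨⟨K, hK⟩, L, f, g, w, hS, hL⟩
  choose s hs using step
  refine ⟨fun n => (s^[n] ⟨A, hA⟩).1, rfl, fun n => ?_⟩
  change Syz P₀ (s^[n] ⟨A, hA⟩).1 (s^[n + 1] ⟨A, hA⟩).1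
  rw [Function.iterate_succ_apply']
  exact hs _

lemma exists_chain (H : Hyp P₀ P₁) : ∀ (n : ℕ) (A K : C), P₁ A → SyzN P₀ n A K →
    ∃ F : ℕ → C, F 0 = A ∧ F n = K ∧ ∀ n, Syz P₀ (F n) (F (n + 1))
  | 0, A, K, hA, h => by
    obtain ⟨F, h0, hF⟩ := exists_chain_zero H A hA
    exact ⟨F, h0, h0.trans h, hF⟩
  | n + 1, A, K, hA, ⟨A', hA', h⟩ => by
    have hA'1 : P₁ A' := by
      obtain ⟨L, f, g, w, hS, hL⟩ := hA'
      exact H.ker₁ _ hS (H.le _ hL) hA
    obtain ⟨F, h0, hn, hF⟩ := exists_chain H n A' K hA'1 h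
    refine ⟨fun m => Nat.casesOn m A F, rfl, hn, fun m => ?_⟩
    cases m with
    | zero =>
      change Syz P₀ A (F 0)
      rw [h0]
      exact hA'
    | succ m => exact hF m

/-- Under the finiteness hypothesis on resolutions, every object of `P₁` is in some `D n`. -/
theorem exists_D [P₀.IsClosedUnderIsomorphisms] (H : Hyp P₀ P₁) {A : C} (hA : P₁ A) {d : ℕ}
    (hd : ∀ L : ChainComplex C ℕ, (∀ i, P₀ (L.X i)) → (∀ i, 1 ≤ i → L.ExactAt i) →
      Nonempty (L.homology 0 ≅ A) → P₀ (L.cycles (d + 1))) : D P₀ (d + 2) A := by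
  apply D_of_syzN
  intro K hK
  obtain ⟨F, h0, hn, hF⟩ := exists_chain H (d + 2) A K hA hK
  choose L f g w hS hL using hF
  obtain ⟨e⟩ := cx_cycles F L f g w hS d
  rw [← hn]
  refine P₀.prop_of_iso e (hd (cx F L f g w) hL ?_ ?_)
  · intro i hi
    obtain ⟨j, rfl⟩ : ∃ j, i = j + 1 := ⟨i - 1, by omega⟩
    exact cx_exactAt F L f g w hS j
  · rw [← h0]
    exact cx_homology_zero F L f g w hS

end Chains

end Groth.Agent.Old.H35.ResolutionChain
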