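import Groth.Agent.Cohder.KZBasic
import Groth.Prelude.Def_SGA6
import Mathlib.Algebra.Homology.ShortComplex.ShortExact
import Mathlib.Algebra.Homology.Additive
import Mathlib.CategoryTheory.Abelian.Basic

/-!
# The resolution theorem for `K₀` of classes of objects of an abelian category

`P₀ ≤ P₁` classes of objects; every object of `P₁` receives an epimorphism from an object of `P₀`, and
for every object `A` of `P₁` the `n`-th syzygies of `A` by objects of `P₀` lie in `P₀` for some `n`.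
-/

set_option autoImplicit false
universe v u
open CategoryTheory CategoryTheory.Limits ZeroObject

namespace Groth.Agent.Old.H35.ResolutionK0

open Groth.Agent.Cohder.KZBasic

variable {C : Type u} [Category.{v} C] [Abelian C]

/-- Third isomorphism theorem in the form: `ker f → ker (f ≫ g) → ker g` is short exact for `f` epi. -/
lemma third {X Y Z K M N : C} (i : K ⟶ X) (f : X ⟶ Y) (w₁ : i ≫ f = 0)
    (h₁ : (ShortComplex.mk i f w₁).ShortExact) (j : M ⟶ X) (g : Y ⟶ Z) (w₂ : j ≫ f ≫ g = 0)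
    (h₂ : (ShortComplex.mk j (f ≫ g) w₂).ShortExact) (k : N ⟶ Y) (w₃ : k ≫ g = 0)
    (h₃ : (ShortComplex.mk k g w₃).ShortExact) :
    ∃ (a : K ⟶ M) (b : M ⟶ N) (w : a ≫ b = 0), (ShortComplex.mk a b w).ShortExact := by
  haveI : Mono i := h₁.mono_f
  haveI : Epi f := h₁.epi_g
  haveI : Mono j := h₂.mono_f
  haveI : Mono k := h₃.mono_f
  haveI : Mono (ShortComplex.mk i f w₁).f := h₁.mono_f
  haveI : Mono (ShortComplex.mk j (f ≫ g) w₂).f := h₂.mono_f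
  haveI : Mono (ShortComplex.mk k g w₃).f := h₃.mono_f
  obtain ⟨a, ha⟩ : ∃ a : K ⟶ M, a ≫ j = i := h₂.exact.lift' i (by simp [reassoc_of% w₁])
  obtain ⟨b, hb⟩ : ∃ b : M ⟶ N, b ≫ k = j ≫ f := h₃.exact.lift' (j ≫ f) (by simpa using w₂)
  have w : a ≫ b = 0 := by
    rw [← cancel_mono k, Category.assoc, hb, reassoc_of% ha, w₁, zero_comp]
  refine ⟨a, b, w, ?_⟩
  haveI : Mono (ShortComplex.mk a b w).f := by
    haveI : Mono (a ≫ j) := by rw [ha]; infer_instance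
    exact mono_of_mono a j
  haveI : Epi (ShortComplex.mk a b w).g := by
    rw [epi_iff_surjective_up_to_refinements]
    intro T y
    obtain ⟨T', π, hπ, x, hx⟩ := surjective_up_to_refinements_of_epi f (y ≫ k)
    obtain ⟨m, hm⟩ : ∃ m : T' ⟶ M, m ≫ j = x := h₂.exact.lift' x (by
        change x ≫ f ≫ g = 0
        rw [← reassoc_of% hx, w₃]; simp)
    refine ⟨T', π, hπ, m, ?_⟩
    change π ≫ y = m ≫ b
    rw [← cancel_mono k, Category.assoc, Category.assoc, hb, reassoc_of% hm, hx]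
  refine { exact := ?_ }
  rw [ShortComplex.exact_iff_exact_up_to_refinements]
  intro T x hx
  have hx : x ≫ b = 0 := hx
  obtain ⟨y, hy⟩ : ∃ y : T ⟶ K, y ≫ i = x ≫ j := h₁.exact.lift' (x ≫ j) (by
      change (x ≫ j) ≫ f = 0
      rw [Category.assoc, ← hb, reassoc_of% hx, zero_comp])
  refine ⟨T, 𝟙 T, inferInstance, y, ?_⟩
  change 𝟙 T ≫ x = y ≫ a
  rw [← cancel_mono j, Category.assoc, Category.assoc, ha, hy, Category.id_comp]

section Main

variable (P₀ P₁ : ObjectProperty C)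

/-- All `n`-th syzygies of `A` (by objects of `P₀`) lie in `P₀`. -/
def D : ℕ → C → Prop
  | 0, A => P₀ A
  | n + 1, A => ∀ (K L : C) (f : K ⟶ L) (g : L ⟶ A) (w : f ≫ g = 0),
      (ShortComplex.mk f g w).ShortExact → P₀ L → D n K

variable {P₀} {P₁}

lemma D_succ (h1₀ : ∀ S : ShortComplex C, S.ShortExact → P₀ S.X₂ → P₀ S.X₃ → P₀ S.X₁) :
    ∀ (n : ℕ) (A : C), D P₀ n A → D P₀ (n + 1) A
  | 0, A, h => fun K L f g w hS hL => h1₀ _ hS hL h
  | n + 1, A, h => fun K L f g w hS hL => D_succ h1₀ n K (h K L f g w hS hL)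

lemma D_le (h1₀ : ∀ S : ShortComplex C, S.ShortExact → P₀ S.X₂ → P₀ S.X₃ → P₀ S.X₁)
    {m n : ℕ} (hmn : m ≤ n) (A : C) (h : D P₀ m A) : D P₀ n A := by
  induction hmn with
  | refl => exact h
  | step _ ih => exact D_succ h1₀ _ A ih

/-- A syzygy of an object of `D n` is in `D n`. -/
lemma D_syz (h1₀ : ∀ S : ShortComplex C, S.ShortExact → P₀ S.X₂ → P₀ S.X₃ → P₀ S.X₁)
    (n : ℕ) {K L A : C} (f : K ⟶ L) (g : L ⟶ A) (w : f ≫ g = 0)
    (hS : (ShortComplex.mk f g w).ShortExact) (hL : P₀ L) (hA : D P₀ n A) : D P₀ n K :=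
  D_succ h1₀ n A hA K L f g w hS hL

open Classical in
/-- The Euler characteristic of a resolution with `n` steps (junk value `0` if there is none). -/
noncomputable def φ (P₀ : ObjectProperty C) : ℕ → C → KZero.K0sub P₀
  | 0, A => KZero.clSub P₀ A
  | n + 1, A => if h : ∃ (K L : C) (f : K ⟶ L) (g : L ⟶ A) (w : f ≫ g = 0),
      (ShortComplex.mk f g w).ShortExact ∧ P₀ L then
      KZero.clSub P₀ h.choose_spec.choose - φ P₀ n h.choose else 0

/-- The kernel of an epimorphism gives a short exact sequence. -/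
lemma shortExact_kernel {L A : C} (g : L ⟶ A) [Epi g] :
    (ShortComplex.mk (kernel.ι g) g (kernel.condition g)).ShortExact :=
  { exact := ShortComplex.exact_of_f_is_kernel _ (kernelIsKernel g)
    mono_f := inferInstanceAs (Mono (kernel.ι g))
    epi_g := inferInstanceAs (Epi g) }

lemma φ_succ (P₀ : ObjectProperty C) (n : ℕ) {A K L : C} (f : K ⟶ L) (g : L ⟶ A) (w : f ≫ g = 0)
    (hS : (ShortComplex.mk f g w).ShortExact) (hL : P₀ L) :
    ∃ (K' L' : C) (f' : K' ⟶ L') (g' : L' ⟶ A) (w' : f' ≫ g' = 0),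
      (ShortComplex.mk f' g' w').ShortExact ∧ P₀ L' ∧
      φ P₀ (n + 1) A = KZero.clSub P₀ L' - φ P₀ n K' := by
  classical
  have h : ∃ (K L : C) (f : K ⟶ L) (g : L ⟶ A) (w : f ≫ g = 0),
      (ShortComplex.mk f g w).ShortExact ∧ P₀ L := ⟨K, L, f, g, w, hS, hL⟩
  obtain ⟨f', g', w', hS', hL'⟩ := h.choose_spec.choose_spec
  exact ⟨_, _, f', g', w', hS', hL', by rw [φ, dif_pos h]⟩

/-- The statements proved together by induction on `n`. -/
structure Good (P₀ P₁ : ObjectProperty C) (n : ℕ) : Prop where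
  base : ∀ {A : C}, P₀ A → φ P₀ n A = KZero.clSub P₀ A
  step : ∀ {K L A : C} (f : K ⟶ L) (g : L ⟶ A) (w : f ≫ g = 0),
    (ShortComplex.mk f g w).ShortExact → P₀ L → P₁ A → D P₀ n A →
    φ P₀ n A = KZero.clSub P₀ L - φ P₀ n K
  add : ∀ {X Y Z : C} (f : X ⟶ Y) (g : Y ⟶ Z) (w : f ≫ g = 0),
    (ShortComplex.mk f g w).ShortExact → P₁ X → P₁ Y → P₁ Z →
    D P₀ n X → D P₀ n Y → D P₀ n Z → φ P₀ n Y = φ P₀ n X + φ P₀ n Z

lemma good_zero (h1₀ : ∀ S : ShortComplex C, S.ShortExact → P₀ S.X₂ → P₀ S.X₃ → P₀ S.X₁) :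
    Good P₀ P₁ 0 where
  base _ := rfl
  step f g w hS hL _ hA := by
    have := clSub_shortExact P₀ _ hS (h1₀ _ hS hL hA) hL hA
    change KZero.clSub P₀ _ = KZero.clSub P₀ _ - KZero.clSub P₀ _
    change KZero.clSub P₀ _ = KZero.clSub P₀ _ + KZero.clSub P₀ _ at this
    rw [this]; abel
  add f g w hS _ _ _ hX hY hZ := clSub_shortExact P₀ _ hS hX hY hZ

/-- The standing hypotheses. -/
structure Hyp (P₀ P₁ : ObjectProperty C) : Prop where
  le : ∀ X, P₀ X → P₁ X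
  ext₀ : ∀ S : ShortComplex C, S.ShortExact → P₀ S.X₁ → P₀ S.X₃ → P₀ S.X₂
  ker₀ : ∀ S : ShortComplex C, S.ShortExact → P₀ S.X₂ → P₀ S.X₃ → P₀ S.X₁
  ker₁ : ∀ S : ShortComplex C, S.ShortExact → P₁ S.X₂ → P₁ S.X₃ → P₁ S.X₁
  dom : ∀ (A B D : C) (u : A ⟶ B) (v : D ⟶ B), Epi u → P₁ A → P₁ B → P₁ D →
      ∃ (L : C) (u' : L ⟶ D) (v' : L ⟶ A), P₀ L ∧ Epi u' ∧ u' ≫ v = v' ≫ u

/-- Every object of `P₁` is covered by an object of `P₀`. -/
lemma Hyp.cover (H : Hyp P₀ P₁) {A : C} (hA : P₁ A) : ∃ (L : C) (g : L ⟶ A), P₀ L ∧ Epi g := by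
  obtain ⟨L, u', v', hL, hu, -⟩ := H.dom A A A (𝟙 A) (𝟙 A) inferInstance hA hA hA
  exact ⟨L, u', hL, hu⟩

/-- Every object of `P₁` has a syzygy. -/
lemma Hyp.syz (H : Hyp P₀ P₁) {A : C} (hA : P₁ A) :
    ∃ (K L : C) (f : K ⟶ L) (g : L ⟶ A) (w : f ≫ g = 0),
      (ShortComplex.mk f g w).ShortExact ∧ P₀ L ∧ P₁ K := by
  obtain ⟨L, g, hL, hg⟩ := H.cover hA
  exact ⟨_, _, _, g, _, shortExact_kernel g, hL, H.ker₁ _ (shortExact_kernel g) (H.le _ hL) hA⟩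

/-- Two epimorphisms onto `A` from objects of `P₀` are dominated by a third one, by epimorphisms. -/
lemma Hyp.dominate (H : Hyp P₀ P₁) {A L L' : C} (hA : P₁ A) (hL : P₀ L) (hL' : P₀ L')
    (g : L ⟶ A) (g' : L' ⟶ A) [Epi g] [Epi g'] :
    ∃ (N : C) (a : N ⟶ L) (a' : N ⟶ L'), P₀ N ∧ Epi a ∧ Epi a' ∧ a ≫ g = a' ≫ g' := by
  obtain ⟨M, u, v, hM, hu, hw⟩ := H.dom L A L' g g' inferInstance (H.le _ hL) hA (H.le _ hL')
  obtain ⟨M', u', v', hM', hu', hw'⟩ := H.dom L' A L g' g inferInstance (H.le _ hL') hA (H.le _ hL)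
  -- `M → L'` epi, `M → L`; `M' → L` epi, `M' → L'`
  refine ⟨M ⊞ M', biprod.desc v u', biprod.desc u v', ?_, ?_, ?_, ?_⟩
  · let S : ShortComplex C := ShortComplex.mk (biprod.inl : M ⟶ M ⊞ M') (biprod.snd : M ⊞ M' ⟶ M')
      biprod.inl_snd
    have hS : S.ShortExact :=
      (ShortComplex.Splitting.ofHasBinaryBiproduct M M').shortExact
    exact H.ext₀ S hS hM hM'
  · haveI : Epi ((biprod.inr : M' ⟶ M ⊞ M') ≫ biprod.desc v u') := by
      rw [biprod.inr_desc]; exact hu'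
    exact epi_of_epi (biprod.inr : M' ⟶ M ⊞ M') _
  · haveI : Epi ((biprod.inl : M ⟶ M ⊞ M') ≫ biprod.desc u v') := by
      rw [biprod.inl_desc]; exact hu
    exact epi_of_epi (biprod.inl : M ⟶ M ⊞ M') _
  · apply biprod.hom_ext'
    · simp [hw]
    · simp [hw']

/-- Comparison of the value of a resolution with the one of a dominating resolution. -/
lemma Hyp.key (H : Hyp P₀ P₁) {n : ℕ} (G : Good P₀ P₁ n)
    {A K L K'' N : C} (f : K ⟶ L) (g : L ⟶ A) (w : f ≫ g = 0)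
    (hS : (ShortComplex.mk f g w).ShortExact) (hL : P₀ L) (hA : P₁ A) (hD : D P₀ (n + 1) A)
    (a : N ⟶ L) [Epi a] (hN : P₀ N) (f'' : K'' ⟶ N) (w'' : f'' ≫ a ≫ g = 0)
    (hS'' : (ShortComplex.mk f'' (a ≫ g) w'').ShortExact) :
    KZero.clSub P₀ N - φ P₀ n K'' = KZero.clSub P₀ L - φ P₀ n K := by
  have hk := shortExact_kernel a
  obtain ⟨p, q, w₄, h₄⟩ := third _ a _ hk f'' g w'' hS'' f w hS
  have hk0 : P₀ (kernel a) := H.ker₀ _ hk hN hL
  have hK : D P₀ n K := hD K L f g w hS hL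
  have hK'' : D P₀ n K'' := hD K'' N f'' (a ≫ g) w'' hS'' hN
  have hK1 : P₁ K := H.ker₁ _ hS (H.le _ hL) hA
  have hK''1 : P₁ K'' := H.ker₁ _ hS'' (H.le _ hN) hA
  have hker : D P₀ n (kernel a) := D_le H.ker₀ (Nat.zero_le n) _ hk0
  have hadd := G.add p q w₄ h₄ (H.le _ hk0) hK''1 hK1 hker hK'' hK
  have hN' := clSub_shortExact P₀ _ hk hk0 hN hL
  change KZero.clSub P₀ N = KZero.clSub P₀ (kernel a) + KZero.clSub P₀ L at hN'
  rw [hadd, hN', G.base hk0]; abel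

/-- `φ (n+1) A` can be computed with any syzygy. -/
lemma Hyp.φ_eq (H : Hyp P₀ P₁) {n : ℕ} (G : Good P₀ P₁ n)
    {A K L : C} (f : K ⟶ L) (g : L ⟶ A) (w : f ≫ g = 0)
    (hS : (ShortComplex.mk f g w).ShortExact) (hL : P₀ L) (hA : P₁ A) (hD : D P₀ (n + 1) A) :
    φ P₀ (n + 1) A = KZero.clSub P₀ L - φ P₀ n K := by
  obtain ⟨K', L', f', g', w', hS', hL', heq⟩ := φ_succ P₀ n f g w hS hL
  rw [heq]
  haveI : Epi g := hS.epi_g
  haveI : Epi g' := hS'.epi_g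
  obtain ⟨N, a, a', hN, ha, ha', haa⟩ := H.dominate hA hL hL' g g'
  haveI := ha
  haveI := ha'
  have hS'' := shortExact_kernel (a ≫ g)
  rw [← H.key G f g w hS hL hA hD a hN _ _ hS'']
  have hS3 : ∃ w3, (ShortComplex.mk (kernel.ι (a ≫ g)) (a' ≫ g') w3).ShortExact := by
    rw [← haa]
    exact ⟨_, hS''⟩
  obtain ⟨w3, hS3⟩ := hS3
  rw [← H.key G f' g' w' hS' hL' hA hD a' hN _ _ hS3]

/-- `φ (n+1)` extends `φ n`. -/
lemma Hyp.φ_mono (H : Hyp P₀ P₁) {n : ℕ} (G : Good P₀ P₁ n) {A : C} (hA : P₁ A) (hD : D P₀ n A) :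
    φ P₀ (n + 1) A = φ P₀ n A := by
  obtain ⟨K, L, f, g, w, hS, hL, hK⟩ := H.syz hA
  rw [H.φ_eq G f g w hS hL hA (D_succ H.ker₀ n A hD), G.step f g w hS hL hA hD]

lemma Hyp.good_succ (H : Hyp P₀ P₁) (n : ℕ) (G : Good P₀ P₁ n) : Good P₀ P₁ (n + 1) := by
  have step : ∀ {K L A : C} (f : K ⟶ L) (g : L ⟶ A) (w : f ≫ g = 0),
      (ShortComplex.mk f g w).ShortExact → P₀ L → P₁ A → D P₀ (n + 1) A →
      φ P₀ (n + 1) A = KZero.clSub P₀ L - φ P₀ (n + 1) K := by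
    intro K L A f g w hS hL hA hD
    rw [H.φ_eq G f g w hS hL hA hD, H.φ_mono G (H.ker₁ _ hS (H.le _ hL) hA) (hD K L f g w hS hL)]
  -- the rotation
  have rot : ∀ {X Y Z : C} (f : X ⟶ Y) (g : Y ⟶ Z) (w : f ≫ g = 0),
      (ShortComplex.mk f g w).ShortExact → P₁ X → P₁ Y → P₁ Z →
      D P₀ (n + 1) Y → D P₀ (n + 1) Z →
      (∀ {K M : C} (p : K ⟶ M) (q : M ⟶ X) (w' : p ≫ q = 0), (ShortComplex.mk p q w').ShortExact →
        P₁ K → P₁ M → D P₀ n K → D P₀ n M → φ P₀ (n + 1) M = φ P₀ (n + 1) K + φ P₀ (n + 1) X) →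
      φ P₀ (n + 1) Y = φ P₀ (n + 1) X + φ P₀ (n + 1) Z := by
    intro X Y Z f g w hS hX hY hZ hDY hDZ h
    obtain ⟨L, a, hL, ha⟩ := H.cover hY
    haveI := ha
    haveI : Epi g := hS.epi_g
    have h1 := shortExact_kernel a
    have h2 := shortExact_kernel (a ≫ g)
    obtain ⟨p, q, w', h'⟩ := third _ a _ h1 _ g _ h2 f w hS
    have := h p q w' h' (H.ker₁ _ h1 (H.le _ hL) hY) (H.ker₁ _ h2 (H.le _ hL) hZ)
      (hDY _ _ _ _ _ h1 hL) (hDZ _ _ _ _ _ h2 hL)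
    rw [step _ _ _ h1 hL hY hDY, step _ _ _ h2 hL hZ hDZ, this]
    abel
  refine ⟨?_, step, ?_⟩
  · intro A hA
    rw [H.φ_mono G (H.le _ hA) (D_le H.ker₀ (Nat.zero_le n) _ hA), G.base hA]
  · intro X Y Z f g w hS hX hY hZ hDX hDY hDZ
    apply rot f g w hS hX hY hZ hDY hDZ
    intro K M p q w' h' hK hM hDK hDM
    apply rot p q w' h' hK hM hX (D_succ H.ker₀ n _ hDM) hDX
    intro K' M' p' q' w'' h'' hK' hM' hDK' hDM'
    rw [H.φ_mono G hM' hDM', H.φ_mono G hK' hDK', H.φ_mono G hK hDK]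
    exact G.add p' q' w'' h'' hK' hM' hK hDK' hDM' hDK

lemma Hyp.good (H : Hyp P₀ P₁) : ∀ n, Good P₀ P₁ n
  | 0 => good_zero H.ker₀
  | n + 1 => H.good_succ n (H.good n)

lemma Hyp.φ_le (H : Hyp P₀ P₁) {m n : ℕ} (hmn : m ≤ n) {A : C} (hA : P₁ A) (hD : D P₀ m A) :
    φ P₀ n A = φ P₀ m A := by
  induction hmn with
  | refl => rfl
  | @step k hk ih => rw [H.φ_mono (H.good k) hA (D_le H.ker₀ hk A hD), ih]

/-- Classes in `K₀(P₁)` of objects with a finite `P₀`-resolution come from `K₀(P₀)`. -/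
lemma Hyp.mem_range (H : Hyp P₀ P₁) (F : KZero.K0sub P₀ →+ KZero.K0sub P₁)
    (hF : ∀ A, P₀ A → F (KZero.clSub P₀ A) = KZero.clSub P₁ A) :
    ∀ (n : ℕ) (A : C), P₁ A → D P₀ n A → KZero.clSub P₁ A ∈ F.range
  | 0, A, _, hD => ⟨_, hF A hD⟩
  | n + 1, A, hA, hD => by
    obtain ⟨K, L, f, g, w, hS, hL, hK⟩ := H.syz hA
    have h1 := Hyp.mem_range H F hF n K hK (hD K L f g w hS hL)
    have h2 := clSub_shortExact P₁ _ hS hK (H.le _ hL) hA
    change KZero.clSub P₁ L = KZero.clSub P₁ K + KZero.clSub P₁ A at h2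
    have h3 : KZero.clSub P₁ A = KZero.clSub P₁ L - KZero.clSub P₁ K := by rw [h2]; abel
    rw [h3]
    exact sub_mem ⟨_, hF L hL⟩ h1

/-- **Resolution theorem**, under the hypothesis that every object of `P₁` is in some `D n`. -/
theorem Hyp.bijective (H : Hyp P₀ P₁) (hD : ∀ A, P₁ A → ∃ n, D P₀ n A)
    (F : KZero.K0sub P₀ →+ KZero.K0sub P₁)
    (hF : ∀ A, P₀ A → F (KZero.clSub P₀ A) = KZero.clSub P₁ A) : Function.Bijective F := by
  constructor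
  · -- the inverse
    choose N hN using hD
    let ψ : KZero.K0sub P₁ →+ KZero.K0sub P₀ := liftSub P₁ (fun A => φ P₀ (N A.1 A.2) A.1) (by
      intro S h₁ h₂ h₃ hS
      let m := max (N S.X₁ h₁) (max (N S.X₂ h₂) (N S.X₃ h₃))
      have e₁ : N S.X₁ h₁ ≤ m := le_max_left _ _
      have e₂ : N S.X₂ h₂ ≤ m := le_trans (le_max_left _ _) (le_max_right _ _)
      have e₃ : N S.X₃ h₃ ≤ m := le_trans (le_max_right _ _) (le_max_right _ _)
      change φ P₀ (N S.X₂ h₂) S.X₂ = φ P₀ (N S.X₁ h₁) S.X₁ + φ P₀ (N S.X₃ h₃) S.X₃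
      rw [← H.φ_le e₁ h₁ (hN _ h₁), ← H.φ_le e₂ h₂ (hN _ h₂), ← H.φ_le e₃ h₃ (hN _ h₃)]
      exact (H.good m).add S.f S.g S.zero hS h₁ h₂ h₃ (D_le H.ker₀ e₁ _ (hN _ h₁))
        (D_le H.ker₀ e₂ _ (hN _ h₂)) (D_le H.ker₀ e₃ _ (hN _ h₃)))
    have hψ : ψ.comp F = AddMonoidHom.id _ := by
      apply hom_ext_sub
      intro A hA
      rw [AddMonoidHom.comp_apply, hF A hA, liftSub_cl P₁ _ _ (H.le A hA), AddMonoidHom.id_apply]
      exact (H.good _).base hA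
    intro x y hxy
    have hx := DFunLike.congr_fun hψ x
    have hy := DFunLike.congr_fun hψ y
    simp only [AddMonoidHom.comp_apply, AddMonoidHom.id_apply] at hx hy
    rw [← hx, ← hy, hxy]
  · rw [← AddMonoidHom.range_eq_top, ← top_le_iff, ← closure_sub P₁, AddSubgroup.closure_le]
    rintro x ⟨A, hA, rfl⟩
    obtain ⟨n, hn⟩ := hD A hA
    exact H.mem_range F hF n A hA hn

end Main

end Groth.Agent.Old.H35.ResolutionK0
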